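import Cfsg.Agent.Helper25.S2856DISTSMUL
import Cfsg.Agent.Helper25.S2856ZSMUL
import Cfsg.Agent.Helper20.S2856VSMUL
import Cfsg.Agent.Helper17.S2856VMONO
import Cfsg.Agent.Helper20.S2856ZLE
import Cfsg.Agent.Helper14.S2856VGEN
import Cfsg.Agent.Helper28.S2856FRAT
import Cfsg.Agent.Helper28.S2856NIL
import Cfsg.Agent.Helper9.S2856ZNE
import Cfsg.Agent.Helper23.S2856RINV

/-!
S2856 + S2857: assembly.
-/

set_option autoImplicit false
set_option linter.unusedSectionVars false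
set_option linter.unusedVariables false

namespace Cfsg.Agent.S2856P

open Cfsg Cfsg.Agent.Helper14

variable {X : Type*} [Group X] {p : ℕ} [Fact p.Prime] (M₁ M₂ : Subgroup X)

/-- every vertex has a neighbour -/
theorem exists_adj (lam : CosetVertex M₁ M₂) : ∃ μ, (cosetGraph M₁ M₂).Adj lam μ := by
  rcases lam with a | a
  · obtain ⟨x, rfl⟩ := exists_rep_inl M₁ a
    exact ⟨_, adj_inl_inr M₁ M₂ x⟩
  · obtain ⟨x, rfl⟩ := exists_rep_inr M₂ a
    exact ⟨_, (adj_inl_inr M₁ M₂ x).symm⟩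

/-- `G_ν` normalizes `V_ν^{(k)}` -/
theorem stab_le_normalizer_vertexVIter (k : ℕ) (ν : CosetVertex M₁ M₂) :
    MulAction.stabilizer X ν ≤ Subgroup.normalizer (vertexVIter p M₁ M₂ k ν : Set X) := by
  apply le_normalizer_of_map_cj_le
  intro g hg
  rw [← vertexVIter_smul, MulAction.mem_stabilizer_iff.1 hg]

theorem vertexZ_le_vertexVIter (k : ℕ) (ν : CosetVertex M₁ M₂) :
    vertexZ p ν ≤ vertexVIter p M₁ M₂ k ν := by
  unfold vertexVIter
  exact le_iSup (fun μ : {μ : CosetVertex M₁ M₂ // (cosetGraph M₁ M₂).dist ν μ ≤ k} =>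
    vertexZ p (μ : CosetVertex M₁ M₂)) ⟨ν, by simp⟩

theorem vertexQ_le_edge (h : IsCharPAmalgamPair p M₁ M₂) (lam μ : CosetVertex M₁ M₂)
    (hadj : (cosetGraph M₁ M₂).Adj lam μ) : vertexQ p lam ≤ edgeStabilizer lam μ :=
  le_inf (pCoreOf_le p _)
    ((vertexQ_le_neighbourKernel M₁ M₂ h lam).trans (neighbourKernel_le_stab M₁ M₂ lam μ hadj))

/-- common end of both proofs: `V_λ^{(k+1)} ≤ V_μ^{(k)}` is impossible inside `Q_λ` -/
theorem false_of_le (h : IsSpeAmalgamPair p M₁ M₂) (k : ℕ) (lam μ : CosetVertex M₁ M₂)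
    (hadj : (cosetGraph M₁ M₂).Adj lam μ)
    (hVQ : vertexVIter p M₁ M₂ (k + 1) lam ≤ vertexQ p lam)
    (hle : vertexVIter p M₁ M₂ (k + 1) lam ≤ vertexVIter p M₁ M₂ k μ) : False := by
  have hc := h.1
  have hgen := hc.1.1
  have heq : vertexVIter p M₁ M₂ (k + 1) lam = vertexVIter p M₁ M₂ k μ :=
    le_antisymm hle (vertexVIter_le_succ M₁ M₂ hgen k lam μ hadj)
  have hbot : vertexVIter p M₁ M₂ (k + 1) lam = ⊥ := by
    apply edge_normal_trivial M₁ M₂ hc.1 lam μ hadj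
    · exact hVQ.trans (vertexQ_le_edge M₁ M₂ hc lam μ hadj)
    · exact stab_le_normalizer_vertexVIter M₁ M₂ (k + 1) lam
    · rw [heq]; exact stab_le_normalizer_vertexVIter M₁ M₂ k μ
  have hZ := vertexZ_le_vertexVIter (p := p) M₁ M₂ (k + 1) lam
  rw [hbot, le_bot_iff] at hZ
  exact vertexZ_ne_bot M₁ M₂ hc lam hZ

/-- any subgroup normalized by `O^p(L_λ)` and by the edge stabilizer is normalized by `G_λ` -/
theorem stab_le_normalizer_of (h : IsSpeAmalgamPair p M₁ M₂) (lam μ : CosetVertex M₁ M₂)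
    (hadj : (cosetGraph M₁ M₂).Adj lam μ) (N : Subgroup X)
    (hR : ((pResidual p ↥(pElementClosure p (MulAction.stabilizer X lam))).map
        (pElementClosure p (MulAction.stabilizer X lam)).subtype) ≤
        Subgroup.normalizer (N : Set X))
    (hE : edgeStabilizer lam μ ≤ Subgroup.normalizer (N : Set X)) :
    MulAction.stabilizer X lam ≤ Subgroup.normalizer (N : Set X) :=
  (stab_le_res_sup_edge M₁ M₂ h lam μ hadj).trans (sup_le hR hE)

/-- S2857 -/
theorem s2857 (h : IsSpeAmalgamPair p M₁ M₂) (lam : CosetVertex M₁ M₂) (n : ℕ) (hn : 2 ≤ n)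
    (hVQ : vertexVIter p M₁ M₂ n lam ≤ vertexQ p lam) :
    ¬ ⁅vertexVIter p M₁ M₂ n lam,
        ((pResidual p ↥(pElementClosure p (MulAction.stabilizer X lam))).map
          (pElementClosure p (MulAction.stabilizer X lam)).subtype)⁆ ≤
      vertexVIter p M₁ M₂ (n - 2) lam := by
  intro hcomm
  have hc := h.1
  have hgen := hc.1.1
  obtain ⟨k, rfl⟩ : ∃ k, n = k + 2 := ⟨n - 2, by omega⟩
  rw [show k + 2 - 2 = k by omega] at hcomm
  obtain ⟨μ, hadj⟩ := exists_adj M₁ M₂ lam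
  have hW₀V : vertexVIter p M₁ M₂ (k + 1) μ ≤ vertexVIter p M₁ M₂ (k + 1 + 1) lam :=
    vertexVIter_le_succ M₁ M₂ hgen (k + 1) lam μ hadj
  have hAW : vertexVIter p M₁ M₂ k lam ≤ vertexVIter p M₁ M₂ (k + 1) μ :=
    vertexVIter_le_succ M₁ M₂ hgen k μ lam hadj.symm
  have hR := le_normalizer_of_commutator_le _ _ _ _ hW₀V hAW hcomm
  have hE : edgeStabilizer lam μ ≤
      Subgroup.normalizer (vertexVIter p M₁ M₂ (k + 1) μ : Set X) :=
    inf_le_right.trans (stab_le_normalizer_vertexVIter M₁ M₂ (k + 1) μ)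
  have hG := stab_le_normalizer_of M₁ M₂ h lam μ hadj _ hR hE
  have hle := vertexVIter_succ_le M₁ M₂ hc (k + 1) lam μ hadj _ hG le_rfl
  exact false_of_le M₁ M₂ h (k + 1) lam μ hadj hVQ hle

/-- S2856 -/
theorem s2856 (h : IsSpeAmalgamPair p M₁ M₂) (lam : CosetVertex M₁ M₂) (n : ℕ) (hn : 1 ≤ n)
    (hVQ : vertexVIter p M₁ M₂ n lam ≤ vertexQ p lam) :
    ¬ ⁅vertexVIter p M₁ M₂ n lam,
        ((pResidual p ↥(pElementClosure p (MulAction.stabilizer X lam))).map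
          (pElementClosure p (MulAction.stabilizer X lam)).subtype)⁆ ≤
      ⁅vertexVIter p M₁ M₂ n lam, vertexQ p lam⁆ := by
  intro hcomm
  have hc := h.1
  have hgen := hc.1.1
  obtain ⟨k, rfl⟩ : ∃ k, n = k + 1 := ⟨n - 1, by omega⟩
  obtain ⟨μ, hadj⟩ := exists_adj M₁ M₂ lam
  set V := vertexVIter p M₁ M₂ (k + 1) lam with hV
  set W₀ := vertexVIter p M₁ M₂ k μ with hW₀
  set Q := vertexQ p lam with hQ
  have hW₀V : W₀ ≤ V := vertexVIter_le_succ M₁ M₂ hgen k lam μ hadj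
  have hGV : MulAction.stabilizer X lam ≤ Subgroup.normalizer (V : Set X) :=
    stab_le_normalizer_vertexVIter M₁ M₂ (k + 1) lam
  have hGQ : MulAction.stabilizer X lam ≤ Subgroup.normalizer (Q : Set X) :=
    le_normalizer_pCoreOf p _
  have hQG : Q ≤ MulAction.stabilizer X lam := pCoreOf_le p _
  have hQE : Q ≤ edgeStabilizer lam μ := vertexQ_le_edge M₁ M₂ hc lam μ hadj
  have hEW₀ : edgeStabilizer lam μ ≤ Subgroup.normalizer (W₀ : Set X) :=
    inf_le_right.trans (stab_le_normalizer_vertexVIter M₁ M₂ k μ)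
  have hVQV : ⁅V, Q⁆ ≤ V := commutator_le_left_of_le_normalizer (hQG.trans hGV)
  -- `G_λ` normalizes `[V, Q]`
  have hGc : MulAction.stabilizer X lam ≤ Subgroup.normalizer ((⁅V, Q⁆ : Subgroup X) : Set X) := by
    apply le_normalizer_of_map_cj_le
    intro g hg
    rw [Subgroup.map_commutator, mem_normalizer_iff_map_cj.1 (hGV hg),
      mem_normalizer_iff_map_cj.1 (hGQ hg)]
  have hWle : W₀ ⊔ ⁅V, Q⁆ ≤ V := sup_le hW₀V hVQV
  have hR := le_normalizer_of_commutator_le V (W₀ ⊔ ⁅V, Q⁆) ⁅V, Q⁆ _ hWle le_sup_right hcomm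
  have hE : edgeStabilizer lam μ ≤
      Subgroup.normalizer ((W₀ ⊔ ⁅V, Q⁆ : Subgroup X) : Set X) := by
    apply le_normalizer_of_map_cj_le
    intro g hg
    rw [Subgroup.map_sup, mem_normalizer_iff_map_cj.1 (hEW₀ hg),
      mem_normalizer_iff_map_cj.1 (hGc (inf_le_left (a := MulAction.stabilizer X lam) hg))]
  have hG := stab_le_normalizer_of M₁ M₂ h lam μ hadj _ hR hE
  have hle : V ≤ W₀ ⊔ ⁅V, Q⁆ :=
    vertexVIter_succ_le M₁ M₂ hc k lam μ hadj _ hG le_sup_left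
  have := finite_stab M₁ M₂ hc lam
  have hQfin : Finite ↥Q := Finite.of_injective
    (fun v : ↥Q => (⟨v.1, hQG v.2⟩ : ↥(MulAction.stabilizer X lam)))
    (fun a b hab => Subtype.ext (by simpa using congrArg Subtype.val hab))
  have hle' : V ≤ W₀ := le_of_le_sup_commutator Q V W₀ (pCoreOf_isPGroup p _) hVQ hW₀V
    (hQG.trans hGV) (hQE.trans hEW₀) hle
  exact false_of_le M₁ M₂ h k lam μ hadj hVQ hle'

end Cfsg.Agent.S2856P
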