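import Cfsg.Prelude.Def_LocalStructure
import Cfsg.Agent.Helper14.Amalgam6
import Cfsg.Agent.Helper14.Irreducible2

/-!
S2856 + S2857 piece project (coset graph, `V_λ^{(n)}`): stubs of all pieces (statements only).
A piece `NAME` is delivered as `Cfsg/Agent/<HelperN>/S2856<NAME>.lean`, importing
`Cfsg.Agent.Helper14.Amalgam6`, `Cfsg.Agent.Helper14.Irreducible2`, `Cfsg.Prelude.Def_LocalStructure`
(NOT this file), proving the theorem with EXACTLY the name and statement below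
(namespace `Cfsg.Agent.S2856P`).
-/

set_option autoImplicit false

namespace Cfsg.Agent.S2856P

open Cfsg Cfsg.Agent.Helper14

variable {X : Type*} [Group X] {p : ℕ} [Fact p.Prime] (M₁ M₂ : Subgroup X)

/-- piece DISTSMUL: the group acts on the coset graph by automorphisms, so distances are preserved. -/
theorem dist_smul (g : X) (a b : CosetVertex M₁ M₂) :
    (cosetGraph M₁ M₂).dist (g • a) (g • b) = (cosetGraph M₁ M₂).dist a b := by
  sorry

/-- piece ZSMUL: `Z_{gν} = g Z_ν g⁻¹`. -/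
theorem vertexZ_smul (g : X) (ν : CosetVertex M₁ M₂) :
    vertexZ p (g • ν) = (vertexZ p ν).map (cj g) := by
  sorry

/-- piece VSMUL: `V_{gν}^{(k)} = g V_ν^{(k)} g⁻¹`. -/
theorem vertexVIter_smul (g : X) (k : ℕ) (ν : CosetVertex M₁ M₂) :
    vertexVIter p M₁ M₂ k (g • ν) = (vertexVIter p M₁ M₂ k ν).map (cj g) := by
  sorry

/-- piece VMONO: `V_μ^{(k)} ≤ V_λ^{(k+1)}` for adjacent `λ`, `μ`. -/
theorem vertexVIter_le_succ (hgen : M₁ ⊔ M₂ = ⊤) (k : ℕ) (lam μ : CosetVertex M₁ M₂)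
    (hadj : (cosetGraph M₁ M₂).Adj lam μ) :
    vertexVIter p M₁ M₂ k μ ≤ vertexVIter p M₁ M₂ (k + 1) lam := by
  sorry

/-- piece ZLE: `Z_λ` lies in the subgroup generated by the `Z_μ`, `μ` a neighbour of `λ`. -/
theorem vertexZ_le_iSup_adj (h : IsCharPAmalgamPair p M₁ M₂) (lam : CosetVertex M₁ M₂) :
    vertexZ p lam ≤ ⨆ μ : {μ : CosetVertex M₁ M₂ // (cosetGraph M₁ M₂).Adj lam μ},
      vertexZ p (μ : CosetVertex M₁ M₂) := by
  sorry

/-- piece VGEN: `V_λ^{(k+1)}` lies in every `G_λ`-invariant subgroup containing `V_μ^{(k)}` for one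
neighbour `μ` of `λ`. -/
theorem vertexVIter_succ_le (h : IsCharPAmalgamPair p M₁ M₂) (k : ℕ) (lam μ : CosetVertex M₁ M₂)
    (hadj : (cosetGraph M₁ M₂).Adj lam μ) (N : Subgroup X)
    (hN : MulAction.stabilizer X lam ≤ Subgroup.normalizer (N : Set X))
    (hle : vertexVIter p M₁ M₂ k μ ≤ N) : vertexVIter p M₁ M₂ (k + 1) lam ≤ N := by
  sorry

/-- piece FRAT: `G_λ = O^p(L_λ) (G_λ ∩ G_μ)` for adjacent `λ`, `μ`. -/
theorem stab_le_res_sup_edge (h : IsSpeAmalgamPair p M₁ M₂) (lam μ : CosetVertex M₁ M₂)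
    (hadj : (cosetGraph M₁ M₂).Adj lam μ) :
    MulAction.stabilizer X lam ≤
      ((pResidual p ↥(pElementClosure p (MulAction.stabilizer X lam))).map
        (pElementClosure p (MulAction.stabilizer X lam)).subtype) ⊔ edgeStabilizer lam μ := by
  sorry

/-- piece NIL: a `p`-group `Q` acting on `V ≤ Q`: if `V = W₀ [V, Q]` with `W₀ ≤ V` `Q`-invariant then
`V = W₀`. -/
theorem le_of_le_sup_commutator (Q V W₀ : Subgroup X) [Finite ↥Q] (hQ : IsPGroup p ↥Q)
    (hVQ : V ≤ Q) (hWV : W₀ ≤ V) (hQV : Q ≤ Subgroup.normalizer (V : Set X))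
    (hQW : Q ≤ Subgroup.normalizer (W₀ : Set X)) (h : V ≤ W₀ ⊔ ⁅V, Q⁆) : V ≤ W₀ := by
  sorry

/-- piece ZNE: `Z_λ ≠ 1`. -/
theorem vertexZ_ne_bot (h : IsCharPAmalgamPair p M₁ M₂) (lam : CosetVertex M₁ M₂) :
    vertexZ p lam ≠ ⊥ := by
  sorry

/-- piece RINV: if `[V, R] ≤ A ≤ W ≤ V` then `R` normalizes `W`. -/
theorem le_normalizer_of_commutator_le (V W A R : Subgroup X) (hWV : W ≤ V) (hAW : A ≤ W)
    (h : ⁅V, R⁆ ≤ A) : R ≤ Subgroup.normalizer (W : Set X) := by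
  sorry

end Cfsg.Agent.S2856P
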